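import Mathlib
import Groth.Agent.FormalFun.Statements
import Groth.Agent.CohFinite.ProperSupport
import Groth.Agent.CohVanish.SerreCriterion

/-!
# Clopen subsets of the closed fibre over a complete ring lift
-/

set_option autoImplicit false
set_option backward.isDefEq.respectTransparency.types false
set_option maxHeartbeats 400000
universe u
open CategoryTheory Limits AlgebraicGeometry TopologicalSpace Opposite

namespace Groth.Agent.ZarConn

variable {A : Type u} [CommRing A] {X : Scheme.{u}} [X.Over (Spec (CommRingCat.of A))]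

local notation "φ₀" => Coh.toGlobal (X ↘ Spec (CommRingCat.of A))

/-- The global function attached to an element of the base. -/
noncomputable def gl (a : A) : Γ(X, ⊤) :=
  (X ↘ Spec (CommRingCat.of A)).appTop.hom ((Scheme.ΓSpecIso (CommRingCat.of A)).inv.hom a)

theorem gl_pow (a : A) (n : ℕ) : gl (X := X) (a ^ n) = gl a ^ n := by simp [gl]

theorem smulMod_app (a : A) (V : X.Opens) (s : Γ(X, V)) :
    (Formal.smulMod A (Coh.structureModule X) a).app V s =
      X.presheaf.map (homOfLE (le_top : V ≤ ⊤)).op (gl a) * s := rfl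

theorem modPowπ_factor {M N : X.Modules} (J : Ideal A) (η : M ⟶ N) (h : ∀ a ∈ J, Formal.smulMod A M a ≫ η = 0) :
    Formal.smulFamily J M ≫ η = 0 := by
  apply Sigma.hom_ext
  intro a
  rw [comp_zero, Formal.smulFamily, Sigma.ι_desc_assoc]
  exact h a a.2

theorem app_eq_zero_of_factor {M N : X.Modules} (J : Ideal A) (η : M ⟶ N) (h : Formal.smulFamily J M ≫ η = 0)
    (U : X.Opens) (s : Γ(M, U)) (hs : (cokernel.π (Formal.smulFamily J M)).app U s = 0) : η.app U s = 0 := by
  rw [← cokernel.π_desc _ η h, Scheme.Modules.Hom.comp_app, CategoryTheory.comp_apply, hs, map_zero]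

/-- The locus where all functions from `I` vanish. -/
def specialLocus (X : Scheme.{u}) [X.Over (Spec (CommRingCat.of A))] (I : Ideal A) : Set X :=
  {x | ∀ a ∈ I, x ∉ X.basicOpen (gl (X := X) a)}

theorem isClosed_specialLocus (I : Ideal A) : IsClosed (specialLocus X I) := by
  rw [show specialLocus X I = ⋂ a ∈ I, (X.basicOpen (gl a) : Set X)ᶜ by
    ext; simp [specialLocus]]
  exact isClosed_biInter fun a _ => (X.basicOpen _).isOpen.isClosed_compl

theorem smulMod_comp_modPowπ (I : Ideal A) (n : ℕ) (M : X.Modules) {a : A} (ha : a ∈ I ^ n) :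
    Formal.smulMod A M a ≫ Formal.modPowπ I n M = 0 := by
  have : Formal.smulMod A M a = Sigma.ι (fun _ : ↥(I ^ n) => M) ⟨a, ha⟩ ≫ Formal.smulFamily (I ^ n) M := by
    simp [Formal.smulFamily]
  rw [this, Category.assoc]
  exact (congrArg (Sigma.ι (fun _ : ↥(I ^ n) => M) ⟨a, ha⟩ ≫ ·)
    (cokernel.condition (Formal.smulFamily (I ^ n) M))).trans comp_zero

theorem modPowπ_smul (I : Ideal A) (n : ℕ) (U : X.Opens) (r s : Γ(X, U)) :
    (Formal.modPowπ I n (Coh.structureModule X)).app U (r * s) =
      r • (Formal.modPowπ I n (Coh.structureModule X)).app U s :=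
  Scheme.Modules.Hom.app_smul (Formal.modPowπ I n (Coh.structureModule X)) r s

/-- Off the special locus the system is zero on `1`. -/
theorem modPowπ_one_eq_zero (I : Ideal A) (n : ℕ) (V : X.Opens) (hV : ∀ x ∈ V, x ∉ specialLocus X I) :
    (Formal.modPowπ I n (Coh.structureModule X)).app V (1 : Γ(X, V)) = 0 := by
  refine TopCat.Sheaf.eq_of_locally_eq' (Coh.toAb (Formal.modPow I n (Coh.structureModule X)))
    (fun a : I => V ⊓ X.basicOpen (gl (X := X) (a : A))) V (fun _ => homOfLE inf_le_left) ?_ _ _ fun a => ?_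
  · intro x hx
    have := hV x hx
    simp only [specialLocus, Set.mem_setOf_eq, not_forall, not_not] at this
    obtain ⟨a, ha, hxa⟩ := this
    exact Opens.mem_iSup.mpr ⟨⟨a, ha⟩, hx, hxa⟩
  · set W := V ⊓ X.basicOpen (gl (X := X) (a : A))
    refine Eq.trans ?_ (map_zero _).symm
    refine (ConcreteCategory.congr_hom ((Formal.modPowπ I n (Coh.structureModule X)).mapPresheaf.naturality
      (homOfLE (inf_le_left : W ≤ V)).op) (1 : Γ(X, V))).symm.trans ?_
    show (Formal.modPowπ I n (Coh.structureModule X)).app W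
      (X.presheaf.map (homOfLE (inf_le_left : W ≤ V)).op 1) = 0
    rw [map_one]
    let t : Γ(X, W) := X.presheaf.map (homOfLE le_top).op (gl (a : A))
    have ht : IsUnit t := by
      refine (X.toRingedSpace).isUnit_of_isUnit_germ W _ fun x hx => ?_
      erw [X.presheaf.germ_res_apply]
      exact (X.mem_basicOpen_top _ x).mp hx.2
    obtain ⟨v, hv⟩ := (ht.pow n).exists_left_inv
    rw [← hv, modPowπ_smul]
    have h0 := ConcreteCategory.congr_hom (congrArg (fun φ => Scheme.Modules.Hom.app φ W)
      (smulMod_comp_modPowπ I n (Coh.structureModule X) (Ideal.pow_mem_pow a.2 n))) (1 : Γ(X, W))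
    have h1 : (Formal.modPowπ I n (Coh.structureModule X)).app W (t ^ n) = 0 := by
      refine Eq.trans (congrArg _ ?_) h0
      refine Eq.trans ?_ (smulMod_app ((a : A) ^ n) W 1).symm
      rw [mul_one, gl_pow, map_pow]
    rw [h1, smul_zero]

/-- Vanishing modulo `I` implies vanishing at the points of the special locus. -/
theorem not_mem_basicOpen (I : Ideal A) {U : X.Opens} (s : Γ(X, U))
    (hs : (Formal.modPowπ I 1 (Coh.structureModule X)).app U s = 0) {x : X} (hx : x ∈ specialLocus X I) :
    x ∉ X.basicOpen s := by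
  let i := X.fromSpecResidueField x
  let η := CohVanish.unitToPush i
  have h0 : ∀ a ∈ I, i.appTop (gl (X := X) a) = 0 := fun a ha => by
    rw [← basicOpen_eq_bot_iff]
    refine le_bot_iff.1 fun z hz => ?_
    have hz' : z ∈ i ⁻¹ᵁ X.basicOpen (gl (X := X) a) := by
      rw [Scheme.preimage_basicOpen]; exact hz
    exact hx a ha ((X.fromSpecResidueField_apply x z) ▸ hz')
  have hη : Formal.smulFamily (I ^ 1) (Coh.structureModule X) ≫ η = 0 := by
    refine modPowπ_factor _ η fun a ha => ?_
    rw [pow_one] at ha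
    apply Scheme.Modules.hom_ext
    intro V
    ext (s : Γ(X, V))
    show i.app V (X.presheaf.map (homOfLE (le_top : V ≤ ⊤)).op (gl (X := X) a) * s) = 0
    rw [map_mul, ← CommRingCat.comp_apply, i.naturality, CommRingCat.comp_apply]
    rw [show i.app ⊤ (gl (X := X) a) = 0 from h0 a ha, map_zero, zero_mul]
  have h1 : i.app U s = 0 := (CohVanish.unitToPush_app i U s).symm.trans (app_eq_zero_of_factor _ η hη U s hs)
  intro hxs
  obtain ⟨z⟩ : Nonempty ↥(Spec (X.residueField x)) := inferInstance
  have hz : z ∈ i ⁻¹ᵁ X.basicOpen s := by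
    show i z ∈ X.basicOpen s
    rw [X.fromSpecResidueField_apply x z]
    exact hxs
  rw [Scheme.preimage_basicOpen, h1, Scheme.basicOpen_zero] at hz
  exact hz

/-- Naturality of `H⁰ = Γ`. -/
noncomputable def h0 (M : X.Modules) : Coh.HH X M 0 ≃+ (Coh.toAb M).obj.obj (op ⊤) :=
  Sheaf.H.equiv₀ (Coh.toAb M) (T := (⊤ : X.Opens)) isTerminalTop

theorem h0_map {M N : X.Modules} (φ : M ⟶ N) (x : Coh.HH X M 0) :
    h0 N (Sheaf.H.map ((SheafOfModules.toSheaf _).map φ) 0 x) = φ.app ⊤ (h0 M x) :=
  (Sheaf.H.equiv₀_naturality isTerminalTop ((SheafOfModules.toSheaf _).map φ) x).symm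

/-- A clopen subset of the special locus is cut out by an idempotent function. -/
theorem exists_isClopen_lift [IsNoetherianRing A] (I : Ideal A) [IsAdicComplete I A]
    [IsProper (X ↘ Spec (CommRingCat.of A))] {C : Set X} (hC : IsClosed C)
    (hC' : IsClosed (specialLocus X I \ C)) (hCX : C ⊆ specialLocus X I) :
    ∃ D : Set X, IsClopen D ∧ D ∩ specialLocus X I = C := by
  have : CompactSpace X := QuasiCompact.compactSpace_of_compactSpace (X ↘ Spec (CommRingCat.of A))
  have : IsLocallyNoetherian X := LocallyOfFiniteType.isLocallyNoetherian (X ↘ Spec (CommRingCat.of A))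
  have : AlgebraicGeometry.IsNoetherian X := ⟨⟩
  have hM : Coh.IsCoh (Coh.structureModule X) :=
    QCohLib.isCoh_iff.mpr ⟨InvBasic.isQuasicoherent_structureModule X, fun U =>
      inferInstanceAs (Module.Finite Γ(X, U.1) Γ(X, U.1))⟩
  have hfin : FormalFun.HasFin (A := A) (Coh.structureModule X) := fun F hF _ => CohFinite.allFin_of_isProper _ F hF
  obtain ⟨hinj, hsurj⟩ := FormalFun.toHHlim_bijective (I := I) hM hfin 0
  let π := fun n => Formal.modPowπ I (n + 1) (Coh.structureModule X)
  let U : Bool → X.Opens := fun b => cond b ⟨(specialLocus X I \ C)ᶜ, hC'.isOpen_compl⟩ ⟨Cᶜ, hC.isOpen_compl⟩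
  have hcov : (⊤ : X.Opens) ≤ ⨆ b, U b := fun x _ => by
    refine Opens.mem_iSup.mpr ?_
    by_cases hx : x ∈ C
    · exact ⟨true, fun h => h.2 hx⟩
    · exact ⟨false, hx⟩
  let σ : ∀ b, Γ(X, U b) := fun b => match b with
    | true => 1
    | false => 0
  have hglue : ∀ n, ∃! y : (Coh.toAb (Formal.modPow I (n + 1) (Coh.structureModule X))).obj.obj (op ⊤),
      ∀ b, (Coh.toAb (Formal.modPow I (n + 1) (Coh.structureModule X))).obj.map (homOfLE le_top).op y =
        (π n).app (U b) (σ b) := fun n => by
    refine TopCat.Sheaf.existsUnique_gluing' (Coh.toAb (Formal.modPow I (n + 1) (Coh.structureModule X))) U ⊤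
      (fun b => homOfLE le_top) hcov (fun b => (π n).app (U b) (σ b)) fun b c => ?_
    have hn : ∀ (b : Bool) (W : X.Opens) (h : W ≤ U b),
        (Coh.toAb (Formal.modPow I (n + 1) (Coh.structureModule X))).obj.map (homOfLE h).op ((π n).app (U b) (σ b)) =
          (π n).app W (X.presheaf.map (homOfLE h).op (σ b)) := fun b W h =>
      (ConcreteCategory.congr_hom ((π n).mapPresheaf.naturality (homOfLE h).op) (σ b)).symm
    refine (hn b _ inf_le_left).trans ((?_ : _ = _).trans (hn c _ inf_le_right).symm)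
    have hz : ∀ W : X.Opens, W ≤ U true ⊓ U false → (π n).app W (1 : Γ(X, W)) = 0 := fun W hW =>
      modPowπ_one_eq_zero I (n + 1) W fun x hx hxs => (hW hx).1 ⟨hxs, (hW hx).2⟩
    cases b <;> cases c
    · rfl
    · simp only [σ, map_zero, map_one]
      exact (map_zero _).trans (hz _ (le_of_eq (inf_comm _ _))).symm
    · simp only [σ, map_zero, map_one]
      exact (hz _ le_rfl).trans (map_zero _).symm
    · rfl
  choose y hy hyu using hglue
  have hres : ∀ n (z : Γ(X, ⊤)) b,
      (Coh.toAb (Formal.modPow I (n + 1) (Coh.structureModule X))).obj.map (homOfLE le_top).op ((π n).app ⊤ z) =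
        (π n).app (U b) (X.presheaf.map (homOfLE le_top).op z) := fun n z b =>
    (ConcreteCategory.congr_hom ((π n).mapPresheaf.naturality (homOfLE (le_top : U b ≤ ⊤)).op) z).symm
  let Y : ∀ n, Formal.HHmodPow I (Coh.structureModule X) 0 n := fun n => (h0 _).symm (y n)
  have hY : Y ∈ Formal.HHlim I (Coh.structureModule X) 0 := fun n => by
    apply (h0 _).injective
    show h0 _ (Sheaf.H.map _ 0 (Y (n + 1))) = _
    rw [h0_map, AddEquiv.apply_symm_apply, AddEquiv.apply_symm_apply]
    refine hyu n _ fun b => ?_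
    refine (ConcreteCategory.congr_hom ((Formal.modPowTrans I (n + 1) (Coh.structureModule X)).mapPresheaf.naturality
      (homOfLE (le_top : U b ≤ ⊤)).op) (y (n + 1))).symm.trans ?_
    refine (congrArg ((Formal.modPowTrans I (n + 1) (Coh.structureModule X)).app (U b)) (hy (n + 1) b)).trans ?_
    exact ConcreteCategory.congr_hom (congrArg (fun φ => Scheme.Modules.Hom.app φ (U b))
      (Formal.modPowπ_trans I (n + 1) (Coh.structureModule X))) (σ b)
  obtain ⟨x, hx⟩ := hsurj ⟨Y, hY⟩
  let r : Γ(X, ⊤) := h0 (Coh.structureModule X) x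
  have hπr : ∀ n b, (π n).app (U b) (X.presheaf.map (homOfLE le_top).op r) = (π n).app (U b) (σ b) := fun n b => by
    rw [← hres n r b, ← hy n b]
    congr 1
    have := congrArg (fun z : Formal.HHlim I (Coh.structureModule X) 0 => h0 _ (z.1 n)) hx
    exact (h0_map (π n) x).symm.trans (this.trans ((h0 _).apply_symm_apply _))
  have hidem : r * r = r := by
    let x2 := (h0 (Coh.structureModule X)).symm (r * r : Γ(X, ⊤))
    have : Formal.toHHlim I (Coh.structureModule X) 0 x2 = Formal.toHHlim I (Coh.structureModule X) 0 x := by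
      refine Subtype.ext (funext fun n => (h0 _).injective ?_)
      refine (h0_map (π n) x2).trans (Eq.trans ?_ (h0_map (π n) x).symm)
      rw [AddEquiv.apply_symm_apply]
      refine TopCat.Sheaf.eq_of_locally_eq' (Coh.toAb (Formal.modPow I (n + 1) (Coh.structureModule X))) U ⊤
        (fun b => homOfLE le_top) hcov _ _ fun b => ?_
      refine (hres n _ b).trans (Eq.trans ?_ (hres n _ b).symm)
      show (π n).app (U b) (X.presheaf.map (homOfLE le_top).op (r * r)) = _
      rw [map_mul, modPowπ_smul, hπr n b, ← modPowπ_smul]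
      cases b
      · exact congrArg _ (mul_zero _)
      · simp only [σ, mul_one]; exact hπr n true
    exact ((h0 (Coh.structureModule X)).symm_apply_eq.mp (hinj this)).symm ▸ rfl
  have hdis : X.basicOpen r ⊓ X.basicOpen (1 - r) = ⊥ := by
    rw [← Scheme.basicOpen_mul, mul_sub, mul_one, hidem, sub_self, Scheme.basicOpen_zero]
  have hun : ∀ x, x ∈ X.basicOpen r ∨ x ∈ X.basicOpen (1 - r) := fun x => by
    simp only [Scheme.mem_basicOpen_top]
    rcases IsLocalRing.isUnit_or_isUnit_one_sub_self (X.presheaf.Γgerm x r) with h | h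
    · exact Or.inl h
    · exact Or.inr (by rwa [map_sub, map_one])
  refine ⟨X.basicOpen r, ⟨?_, (X.basicOpen r).isOpen⟩, ?_⟩
  · rw [show (X.basicOpen r : Set X) = (X.basicOpen (1 - r) : Set X)ᶜ from Set.ext fun z =>
      ⟨fun h h' => (hdis.le ⟨h, h'⟩ : z ∈ (⊥ : X.Opens)).elim, fun h => (hun z).resolve_right h⟩]
    exact (X.basicOpen (1 - r)).isOpen.isClosed_compl
  · ext z
    constructor
    · rintro ⟨hz, hzs⟩
      by_contra hzC
      have h0 : (π 0).app (U false) (X.presheaf.map (homOfLE le_top).op r) = 0 := (hπr 0 false).trans (map_zero _)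
      refine not_mem_basicOpen I _ h0 hzs ?_
      rw [Scheme.basicOpen_res]
      exact ⟨hzC, hz⟩
    · intro hzC
      refine ⟨(hun z).resolve_right fun hz => ?_, hCX hzC⟩
      have h1 : (π 0).app (U true) (X.presheaf.map (homOfLE le_top).op (1 - r)) = 0 := by
        rw [map_sub, map_one]
        refine (map_sub ((π 0).app (U true)).hom (1 : Γ(X, U true)) _).trans ?_
        exact sub_eq_zero.mpr (hπr 0 true).symm
      refine not_mem_basicOpen I _ h1 (hCX hzC) ?_
      rw [Scheme.basicOpen_res]
      exact ⟨fun h => h.2 hzC, hz⟩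

end Groth.Agent.ZarConn
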