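import Mathlib
import Groth.Agent.ZarConn.Lift
import Groth.Agent.LimLib.Components

/-!
# Connected components of a proper scheme over a complete ring and of its special fibre
-/

set_option autoImplicit false
universe u
open CategoryTheory Limits AlgebraicGeometry TopologicalSpace Opposite

namespace Groth.Agent.ZarConn

variable {A : Type u} [CommRing A] {X : Scheme.{u}} [X.Over (Spec (CommRingCat.of A))]

theorem specialLocus_eq (I : Ideal A) :
    specialLocus X I = (X ↘ Spec (CommRingCat.of A)) ⁻¹' PrimeSpectrum.zeroLocus (I : Set A) := by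
  ext x
  have h : ∀ a : A, x ∈ X.basicOpen (gl (X := X) a) ↔
      (X ↘ Spec (CommRingCat.of A)) x ∈ PrimeSpectrum.basicOpen a := fun a => by
    rw [← basicOpen_eq_of_affine (R := CommRingCat.of A) a]
    exact (SetLike.ext_iff.mp (Scheme.preimage_basicOpen (X ↘ Spec (CommRingCat.of A))
      ((Scheme.ΓSpecIso (CommRingCat.of A)).inv a)) x).symm
  refine ⟨fun hx a ha => ?_, fun hx a ha hb => (h a).mp hb (hx ha)⟩
  by_contra hne
  exact hx a ha ((h a).mpr hne)

theorem range_specMap_mk (I : Ideal A) :
    Set.range (Spec.map (CommRingCat.ofHom (Ideal.Quotient.mk I))) = PrimeSpectrum.zeroLocus (I : Set A) := by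
  conv_rhs => rw [← Ideal.mk_ker (I := I)]
  exact range_comap_of_surjective _ _ Ideal.Quotient.mk_surjective

/-- A scheme without nontrivial idempotent functions is preconnected. -/
theorem preconnectedSpace_of_idempotent (Y : Scheme.{u})
    (h : ∀ e : Γ(Y, ⊤), e * e = e → e = 0 ∨ e = 1) : PreconnectedSpace Y := by
  refine preconnectedSpace_iff_clopen.mpr fun C hC => ?_
  let U : Bool → Y.Opens := fun b => cond b ⟨C, hC.isOpen⟩ ⟨Cᶜ, hC.compl.isOpen⟩
  have hcov : (⊤ : Y.Opens) ≤ ⨆ b, U b := fun x _ => by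
    refine Opens.mem_iSup.mpr ?_
    by_cases hx : x ∈ C
    · exact ⟨true, hx⟩
    · exact ⟨false, hx⟩
  let σ : ∀ b, Γ(Y, U b) := fun b => match b with
    | true => 1
    | false => 0
  have hsub : ∀ W : Y.Opens, W ≤ U true ⊓ U false → Subsingleton Γ(Y, W) := fun W hW => by
    rw [le_bot_iff.mp (show W ≤ ⊥ from fun x hx => ((hW hx).2 (hW hx).1).elim)]
    exact CommRingCat.subsingleton_of_isTerminal (TopCat.Sheaf.isTerminalOfEmpty Y.sheaf)
  obtain ⟨e, he, -⟩ := TopCat.Sheaf.existsUnique_gluing' Y.sheaf U ⊤ (fun b => homOfLE le_top) hcov σ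
    (fun b c => by
      cases b <;> cases c
      · rfl
      · exact @Subsingleton.elim _ (hsub _ (le_of_eq (inf_comm _ _))) _ _
      · exact @Subsingleton.elim _ (hsub _ le_rfl) _ _
      · rfl)
  have hidem : e * e = e := Y.sheaf.eq_of_locally_eq' U ⊤ (fun b => homOfLE le_top) hcov _ _ fun b => by
    refine (map_mul _ _ _).trans ?_
    erw [he b]
    cases b
    · exact mul_zero _
    · exact mul_one _
  have hmem : ∀ x b, x ∈ U b → (x ∈ Y.basicOpen e ↔ x ∈ Y.basicOpen (σ b)) := fun x b hx => by
    have h1 := Y.basicOpen_res e (homOfLE (le_top : U b ≤ ⊤)).op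
    erw [he b] at h1
    rw [h1]
    exact ⟨fun h => ⟨hx, h⟩, fun h => h.2⟩
  have hC' : (Y.basicOpen e : Set Y) = C := Set.ext fun x => by
    by_cases hx : x ∈ C
    · simp only [hx, iff_true, SetLike.mem_coe, hmem x true hx]
      show x ∈ Y.basicOpen (1 : Γ(Y, U true))
      rw [Scheme.basicOpen_of_isUnit _ isUnit_one]
      exact hx
    · simp only [hx, iff_false, SetLike.mem_coe, hmem x false hx]
      show x ∉ Y.basicOpen (0 : Γ(Y, U false))
      rw [Scheme.basicOpen_zero]
      exact id
  rcases h e hidem with rfl | rfl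
  · left; rw [← hC', Scheme.basicOpen_zero]; rfl
  · right; rw [← hC', Scheme.basicOpen_of_isUnit _ isUnit_one]; rfl

/-- The special fibre of a connected proper scheme over a complete ring is connected. -/
theorem isPreconnected_specialLocus [IsNoetherianRing A] (I : Ideal A) [IsAdicComplete I A]
    [IsProper (X ↘ Spec (CommRingCat.of A))] {Z : Set X} (hZ : _root_.IsPreconnected Z) (hZc : IsClopen Z) :
    _root_.IsPreconnected (Z ∩ specialLocus X I) := by
  have hc : IsClosed (Z ∩ specialLocus X I) := hZc.isClosed.inter (isClosed_specialLocus I)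
  rw [isPreconnected_iff_subset_of_fully_disjoint_closed hc]
  intro a b ha hb hab habd
  set C := Z ∩ specialLocus X I ∩ a with hCdef
  have hC' : specialLocus X I \ C = (specialLocus X I ∩ Zᶜ) ∪ (Z ∩ specialLocus X I ∩ b) := by
    ext x
    refine ⟨fun ⟨hx, hxC⟩ => ?_, ?_⟩
    · by_cases hxZ : x ∈ Z
      · exact Or.inr ⟨⟨hxZ, hx⟩, (hab ⟨hxZ, hx⟩).resolve_left fun h => hxC ⟨⟨hxZ, hx⟩, h⟩⟩
      · exact Or.inl ⟨hx, hxZ⟩
    · rintro (⟨hx, hxZ⟩ | ⟨⟨hxZ, hx⟩, hxb⟩)
      · exact ⟨hx, fun h => hxZ h.1.1⟩
      · exact ⟨hx, fun h => Set.disjoint_left.mp habd h.2 hxb⟩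
  obtain ⟨D, hD, hDC⟩ := exists_isClopen_lift (X := X) I (hc.inter ha)
    (hC'.symm ▸ ((isClosed_specialLocus I).inter hZc.compl.isClosed).union (hc.inter hb)) fun x hx => hx.1.2
  rcases (Z ∩ specialLocus X I ∩ a).eq_empty_or_nonempty with hemp | ⟨x, hx⟩
  · exact Or.inr fun x hx => (hab hx).resolve_left fun h => (hemp.subset ⟨hx, h⟩).elim
  · left
    have hxD : x ∈ D := (hDC.symm.subset hx).1
    intro y hy
    have hyD : y ∈ D := hZ.subset_isClopen hD ⟨x, hx.1.1, hxD⟩ hy.1
    exact (hDC.subset ⟨hyD, hy.2⟩).2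

/-- Connected components of the special fibre are those of the whole. -/
theorem bijective_connectedComponentsMap [IsNoetherianRing A] (I : Ideal A) [IsAdicComplete I A]
    [IsProper (X ↘ Spec (CommRingCat.of A))] {W : Type u} [TopologicalSpace W] {i : W → X}
    (hi : Topology.IsEmbedding i) (hr : Set.range i = specialLocus X I) :
    Function.Bijective hi.continuous.connectedComponentsMap := by
  have : CompactSpace X := QuasiCompact.compactSpace_of_compactSpace (X ↘ Spec (CommRingCat.of A))
  have : IsLocallyNoetherian X := LocallyOfFiniteType.isLocallyNoetherian (X ↘ Spec (CommRingCat.of A))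
  have : AlgebraicGeometry.IsNoetherian X := ⟨⟩
  have hclopen : ∀ x : X, IsClopen (connectedComponent x) :=
    LimLib.isClopen_connectedComponent_of_finite LimLib.finite_connectedComponents
  refine ⟨fun a b hab => ?_, fun c => ?_⟩
  · obtain ⟨w, rfl⟩ := ConnectedComponents.surjective_coe a
    obtain ⟨w', rfl⟩ := ConnectedComponents.surjective_coe b
    rw [ConnectedComponents.coe_eq_coe]
    replace hab : connectedComponent (i w) = connectedComponent (i w') := ConnectedComponents.coe_eq_coe.mp hab
    have hpre : _root_.IsPreconnected (i ⁻¹' connectedComponent (i w)) := by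
      rw [← hi.isInducing.isPreconnected_image, Set.image_preimage_eq_inter_range, hr]
      exact isPreconnected_specialLocus I isPreconnected_connectedComponent (hclopen _)
    exact connectedComponent_eq (hpre.subset_connectedComponent mem_connectedComponent
      (show i w' ∈ connectedComponent (i w) by rw [hab]; exact mem_connectedComponent))
  · obtain ⟨x, rfl⟩ := ConnectedComponents.surjective_coe c
    let f := X ↘ Spec (CommRingCat.of A)
    obtain ⟨q, ⟨p, hp, hpq⟩, hqI⟩ : (f '' connectedComponent x ∩ PrimeSpectrum.zeroLocus (I : Set A)).Nonempty := by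
      have himg : IsClosed (f '' connectedComponent x) := f.isClosedMap _ isClosed_connectedComponent
      obtain ⟨t, ht⟩ : (f '' connectedComponent x).Nonempty := ⟨f x, x, mem_connectedComponent, rfl⟩
      obtain ⟨m, hm, htm⟩ := Ideal.exists_le_maximal t.asIdeal t.2.ne_top
      refine ⟨⟨m, hm.isPrime⟩, himg.stableUnderSpecialization
        ((PrimeSpectrum.le_iff_specializes t ⟨m, hm.isPrime⟩).mp htm) ht, ?_⟩
      exact fun a ha => (IsAdicComplete.le_jacobson_bot I).trans (sInf_le ⟨bot_le, hm⟩) ha
    have hps : p ∈ specialLocus X I := by rw [specialLocus_eq]; exact (show f p ∈ _ from hpq ▸ hqI)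
    obtain ⟨w, rfl⟩ := hr.symm.subset hps
    exact ⟨ConnectedComponents.mk w, ConnectedComponents.coe_eq_coe.mpr (connectedComponent_eq hp).symm⟩

end Groth.Agent.ZarConn
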