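import Mathlib
import Groth.Agent.ZarConn.Conn
import Groth.Agent.S0543

/-!
# Zariski's connectedness theorem over a local ring
-/

set_option autoImplicit false
universe u
open CategoryTheory Limits AlgebraicGeometry TopologicalSpace Opposite

namespace Groth.Agent.ZarConn

/-- Global functions and affine flat base change. -/
theorem bijective_appTop_flat {Z S T P : Scheme.{u}} {f : Z ⟶ S} {a : T ⟶ S} {p₁ : P ⟶ Z} {p₂ : P ⟶ T}
    (H : IsPullback p₁ p₂ f a) [IsAffine S] [IsAffine T] [Flat a] [QuasiCompact f] [QuasiSeparated f]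
    (hf : Function.Bijective f.appTop.hom) : Function.Bijective p₂.appTop.hom := by
  haveI : CompactSpace Z := QuasiCompact.compactSpace_of_compactSpace f
  haveI : QuasiSeparatedSpace Z := quasiSeparatedSpace_of_quasiSeparated f
  have hpo := (isIso_pushoutSection_iff ..).mp
    (isIso_pushoutSection_of_isQuasiSeparated_of_flat_right H (US := ⊤) (UT := ⊤) (UX := ⊤) (by simp) (by simp)
      (UY := ⊤) (by simp) (isAffineOpen_top S) (isAffineOpen_top T) isCompact_univ
      (isQuasiSeparated_univ_iff.mpr ‹_›))
  have hiso : IsIso (f.appLE ⊤ ⊤ (by simp)) := by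
    have h : IsIso f.appTop := (ConcreteCategory.isIso_iff_bijective _).mpr hf
    rw [Scheme.Hom.appTop, f.app_eq_appLE] at h
    exact h
  have h2 := hpo.isIso_inr_of_isIso hiso
  haveI : IsIso p₂.appTop := by
    rw [Scheme.Hom.appTop, p₂.app_eq_appLE]
    exact h2
  exact ConcreteCategory.bijective_of_isIso p₂.appTop

/-- The simple extension of a ring lifting a simple extension of the residue field. -/
theorem exists_lift (A : Type u) [CommRing A] [IsLocalRing A] (k' : Type u) [Field k']
    [Algebra (IsLocalRing.ResidueField A) k'] [FiniteDimensional (IsLocalRing.ResidueField A) k']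
    [Algebra.IsSeparable (IsLocalRing.ResidueField A) k'] :
    ∃ (P : Polynomial A) (x : k'), P.Monic ∧
      Polynomial.eval₂ ((algebraMap (IsLocalRing.ResidueField A) k').comp (IsLocalRing.residue A)) x P = 0 ∧
      (∀ y : k', ∃ Q : Polynomial A,
        Polynomial.eval₂ ((algebraMap (IsLocalRing.ResidueField A) k').comp (IsLocalRing.residue A)) x Q = y) ∧
        ∀ Q' : Polynomial A,
          Polynomial.eval₂ ((algebraMap (IsLocalRing.ResidueField A) k').comp (IsLocalRing.residue A)) x Q' = 0 →
            Q'.map (IsLocalRing.residue A) ∈ Ideal.span {P.map (IsLocalRing.residue A)} := by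
  obtain ⟨x, hx⟩ := Field.exists_primitive_element (IsLocalRing.ResidueField A) k'
  have hint : IsIntegral (IsLocalRing.ResidueField A) x := Algebra.IsIntegral.isIntegral x
  obtain ⟨P, hP, -, hPm⟩ := Polynomial.lifts_and_degree_eq_and_monic
    ((Polynomial.lifts_iff_coeff_lifts _).mpr fun n => IsLocalRing.residue_surjective _)
    (minpoly.monic hint)
  refine ⟨P, x, hPm, ?_, fun y => ?_, fun Q' hQ' => ?_⟩
  · rw [← Polynomial.eval₂_map, hP]
    exact minpoly.aeval _ x
  · have htop : Algebra.adjoin (IsLocalRing.ResidueField A) {x} = ⊤ := by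
      rw [← IntermediateField.adjoin_simple_toSubalgebra_of_isAlgebraic hint.isAlgebraic, hx, IntermediateField.top_toSubalgebra]
    obtain ⟨q, hq⟩ := Algebra.adjoin_singleton_eq_range_aeval (R := IsLocalRing.ResidueField A) x ▸
      (htop.symm ▸ Algebra.mem_top : y ∈ Algebra.adjoin (IsLocalRing.ResidueField A) {x})
    obtain ⟨Q, rfl⟩ := Polynomial.map_surjective _ IsLocalRing.residue_surjective q
    refine ⟨Q, ?_⟩
    rw [← hq, ← Polynomial.eval₂_map]; rfl
  · rw [← Polynomial.eval₂_map] at hQ'
    rw [hP]
    exact Ideal.mem_span_singleton.mpr (minpoly.dvd _ x hQ')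

theorem isClosedImmersion_specMap {B k' : Type u} [CommRing B] [CommRing k'] (ψ : B →+* k')
    (h : Function.Surjective ψ) : IsClosedImmersion (Spec.map (CommRingCat.ofHom ψ)) :=
  IsClosedImmersion.spec_of_surjective _ h

/-- Connectedness of the closed fibre after a separable extension. -/
theorem connectedSpace_pullback_of_bijective (A : Type u) [CommRing A] [IsNoetherianRing A] [IsLocalRing A]
    {X : Scheme.{u}} (f : X ⟶ Spec (CommRingCat.of A)) [IsProper f] (hb : Function.Bijective f.appTop.hom)
    (k' : Type u) [Field k'] [Algebra (IsLocalRing.ResidueField A) k']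
    [FiniteDimensional (IsLocalRing.ResidueField A) k'] [Algebra.IsSeparable (IsLocalRing.ResidueField A) k'] :
    ConnectedSpace ↥(pullback f (Spec.map (CommRingCat.ofHom
      ((algebraMap (IsLocalRing.ResidueField A) k').comp (IsLocalRing.residue A))))) := by
  set m := IsLocalRing.maximalIdeal A
  set ρ := (algebraMap (IsLocalRing.ResidueField A) k').comp (IsLocalRing.residue A)
  obtain ⟨P, x, hPm, hPx, hgen, hkerQ⟩ := exists_lift A k'
  let Ah := AdicCompletion m A
  haveI : IsNoetherianRing Ah := S0543.result A m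
  let I : Ideal Ah := m.map (algebraMap A Ah)
  haveI : IsAdicComplete I Ah := AdicCompletion.isAdicComplete_self m m.fg_of_isNoetherianRing
  let B := AdjoinRoot (P.map (algebraMap A Ah))
  have hPm' : (P.map (algebraMap A Ah)).Monic := hPm.map _
  haveI : Module.Finite Ah B := hPm'.finite_adjoinRoot
  haveI : Module.Free Ah B := hPm'.free_adjoinRoot
  haveI : Module.Flat A Ah := inferInstance
  haveI : Module.Flat A B := Module.Flat.trans A Ah B
  let ev : Ah →+* k' := (algebraMap (IsLocalRing.ResidueField A) k').comp (AdicCompletion.evalOneₐ m).toRingHom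
  have hev : ev.comp (algebraMap A Ah) = ρ := by
    refine RingHom.ext fun a => ?_
    show algebraMap (IsLocalRing.ResidueField A) k' (AdicCompletion.evalOneₐ m (algebraMap A Ah a)) = _
    rw [AlgHom.commutes]
    rfl
  let ψ : B →+* k' := AdjoinRoot.lift ev x (by rw [Polynomial.eval₂_map, hev]; exact hPx)
  have hψA : ∀ Q : Polynomial A, ψ (AdjoinRoot.mk _ (Q.map (algebraMap A Ah))) = Polynomial.eval₂ ρ x Q :=
    fun Q => by rw [AdjoinRoot.lift_mk, Polynomial.eval₂_map, hev]
  have hψ : Function.Surjective ψ := fun y => by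
    obtain ⟨Q, hQ⟩ := hgen y
    exact ⟨_, (hψA Q).trans hQ⟩
  have hevsurj : ∀ c : Ah, ∃ a : A, c - algebraMap A Ah a ∈ I := fun c => by
    obtain ⟨a, ha⟩ := Ideal.Quotient.mk_surjective (AdicCompletion.evalOneₐ m c)
    refine ⟨a, ?_⟩
    show _ ∈ m.map (algebraMap A Ah)
    rw [← AdicCompletion.ker_evalOneₐ_eq_map m m.fg_of_isNoetherianRing, RingHom.mem_ker]
    show (AdicCompletion.evalOneₐ m) _ = 0
    rw [map_sub, AlgHom.commutes, ← ha]
    exact sub_self _
  have hrep : ∀ b : B, ∃ Q : Polynomial A, b - AdjoinRoot.mk _ (Q.map (algebraMap A Ah)) ∈ I.map (algebraMap Ah B) := by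
    intro b
    induction b using AdjoinRoot.induction_on with
    | _ p =>
      choose a ha using hevsurj
      refine ⟨∑ i ∈ p.support, Polynomial.monomial i (a (p.coeff i)), ?_⟩
      rw [show AdjoinRoot.mk (P.map (algebraMap A Ah)) p =
          ∑ i ∈ p.support, AdjoinRoot.mk (P.map (algebraMap A Ah)) (Polynomial.monomial i (p.coeff i)) by
        rw [← map_sum, ← p.as_sum_support], Polynomial.map_sum, map_sum, ← Finset.sum_sub_distrib]
      refine sum_mem fun i _ => ?_
      rw [Polynomial.map_monomial, ← map_sub, ← map_sub (Polynomial.monomial i), ← Polynomial.C_mul_X_pow_eq_monomial, map_mul]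
      exact Ideal.mul_mem_right _ _ (Ideal.mem_map_of_mem _ (ha _))
  have hker : RingHom.ker ψ = I.map (algebraMap Ah B) := by
    refine le_antisymm (fun b hb' => ?_) ?_
    · obtain ⟨Q, hQ⟩ := hrep b
      have hI : I.map (algebraMap Ah B) ≤ RingHom.ker ψ := by
        rw [Ideal.map_map, Ideal.map_le_iff_le_comap]
        intro a ha
        rw [Ideal.mem_comap, RingHom.mem_ker, RingHom.comp_apply]
        show ψ (AdjoinRoot.of _ (algebraMap A Ah a)) = 0
        rw [AdjoinRoot.lift_of, ← RingHom.comp_apply, hev, RingHom.comp_apply,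
          (IsLocalRing.residue_eq_zero_iff _).mpr ha, map_zero]
      have h0 : Polynomial.eval₂ ρ x Q = 0 := by
        rw [← hψA]
        have := hI hQ
        rw [RingHom.mem_ker, map_sub, RingHom.mem_ker.mp hb', zero_sub, neg_eq_zero] at this
        exact this
      obtain ⟨R, hR⟩ := Ideal.mem_span_singleton.mp (hkerQ Q h0)
      obtain ⟨R, rfl⟩ := Polynomial.map_surjective _ IsLocalRing.residue_surjective R
      have hd : ∀ i, (Q - P * R).coeff i ∈ m := fun i => by
        rw [← Ideal.Quotient.eq_zero_iff_mem]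
        show IsLocalRing.residue A ((Q - P * R).coeff i) = 0
        rw [← Polynomial.coeff_map, Polynomial.map_sub, Polynomial.map_mul, ← hR, sub_self, Polynomial.coeff_zero]
      have h1 : AdjoinRoot.mk (P.map (algebraMap A Ah)) (Q.map (algebraMap A Ah)) ∈ I.map (algebraMap Ah B) := by
        have e : AdjoinRoot.mk (P.map (algebraMap A Ah)) (Q.map (algebraMap A Ah)) =
            AdjoinRoot.mk _ ((Q - P * R).map (algebraMap A Ah)) := by
          simp [Polynomial.map_sub, Polynomial.map_mul, AdjoinRoot.mk_self]
        rw [e, Polynomial.as_sum_support (Q - P * R), Polynomial.map_sum, map_sum]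
        refine sum_mem fun i _ => ?_
        rw [Polynomial.map_monomial, ← Polynomial.C_mul_X_pow_eq_monomial, map_mul]
        exact Ideal.mul_mem_right _ _ (Ideal.mem_map_of_mem _ (Ideal.mem_map_of_mem _ (hd i)))
      simpa using add_mem hQ h1
    · rw [Ideal.map_map, Ideal.map_le_iff_le_comap]
      intro a ha
      rw [Ideal.mem_comap, RingHom.mem_ker, RingHom.comp_apply]
      show ψ (AdjoinRoot.of _ (algebraMap A Ah a)) = 0
      rw [AdjoinRoot.lift_of, ← RingHom.comp_apply, hev, RingHom.comp_apply,
        (IsLocalRing.residue_eq_zero_iff _).mpr ha, map_zero]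
  have hIjac : RingHom.ker ψ ≤ Ideal.jacobson (⊥ : Ideal B) := by
    rw [hker]
    refine le_sInf fun M ⟨_, hM⟩ => ?_
    rw [Ideal.map_le_iff_le_comap]
    have : (M.comap (algebraMap Ah B)).IsMaximal := Ideal.isMaximal_comap_of_isIntegral_of_isMaximal M
    exact (IsAdicComplete.le_jacobson_bot I).trans (sInf_le ⟨bot_le, this⟩)
  have hidB : ∀ e : B, e * e = e → e = 0 ∨ e = 1 := by
    intro e he
    have hz : ∀ z : B, z * z = z → ψ z = 0 → z = 0 := fun z hz hz0 => by
      have hu := Ideal.mem_jacobson_bot.mp (hIjac (RingHom.mem_ker.mpr hz0)) (-1)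
      exact hu.mul_left_eq_zero.mp (show z * (z * -1 + 1) = 0 by linear_combination (-1 : B) * hz)
    rcases mul_eq_zero.mp (show ψ e * (1 - ψ e) = 0 by
      rw [mul_sub, mul_one, ← map_mul, he, sub_self]) with h | h
    · exact Or.inl (hz e he h)
    · refine Or.inr (sub_eq_zero.mp (hz (1 - e) ?_ ?_)).symm
      · linear_combination (1 : B) * he
      · rw [map_sub, map_one, h]
  -- geometry
  let b : Spec (CommRingCat.of B) ⟶ Spec (CommRingCat.of A) := Spec.map (CommRingCat.ofHom (algebraMap A B))
  haveI : Flat b := by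
    rw [HasRingHomProperty.Spec_iff (P := @Flat)]
    exact RingHom.flat_algebraMap_iff.mpr inferInstance
  have hbij := bijective_appTop_flat (IsPullback.of_hasPullback f b) hb
  let XB := pullback f b
  let c : Spec (CommRingCat.of B) ⟶ Spec (CommRingCat.of Ah) := Spec.map (CommRingCat.ofHom (algebraMap Ah B))
  haveI : IsFinite c := by
    rw [IsFinite.SpecMap_iff]
    exact RingHom.finite_algebraMap.mpr inferInstance
  letI : XB.Over (Spec (CommRingCat.of Ah)) := ⟨pullback.snd f b ≫ c⟩
  haveI : IsProper (XB ↘ Spec (CommRingCat.of Ah)) := (inferInstance : IsProper (pullback.snd f b ≫ c))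
  haveI : PreconnectedSpace XB := preconnectedSpace_of_idempotent XB fun e he => by
    obtain ⟨e', rfl⟩ := hbij.2 e
    have h' : e' * e' = e' := hbij.1 (by rw [map_mul]; exact he)
    let σ := (Scheme.ΓSpecIso (CommRingCat.of B)).commRingCatIsoToRingEquiv
    rcases hidB (σ e') (by rw [← map_mul, h']) with h | h
    · left; rw [σ.map_eq_zero_iff.mp h]; exact map_zero _
    · right; rw [σ.map_eq_one_iff.mp h]; exact map_one _
  have hpre := isPreconnected_specialLocus (X := XB) I isPreconnected_univ isClopen_univ
  rw [Set.univ_inter] at hpre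
  let t : Spec (CommRingCat.of k') ⟶ Spec (CommRingCat.of B) := Spec.map (CommRingCat.ofHom ψ)
  haveI : IsClosedImmersion t := isClosedImmersion_specMap ψ hψ
  have hrange : Set.range (pullback.fst (pullback.snd f b) t) = specialLocus XB I := by
    rw [Scheme.Pullback.range_fst, specialLocus_eq]
    show _ = (pullback.snd f b ≫ c) ⁻¹' _
    rw [Scheme.Hom.comp_base, TopCat.coe_comp, Set.preimage_comp]
    congr 1
    show Set.range (PrimeSpectrum.comap ψ) = PrimeSpectrum.comap (algebraMap Ah B) ⁻¹' _
    rw [range_comap_of_surjective _ _ hψ, PrimeSpectrum.preimage_comap_zeroLocus, hker, Ideal.map,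
      PrimeSpectrum.zeroLocus_span]
  let emb := (pullback.fst (pullback.snd f b) t).isClosedEmbedding.isEmbedding
  have h1 : PreconnectedSpace ↥(pullback (pullback.snd f b) t) := by
    refine ⟨?_⟩
    rw [← emb.isInducing.isPreconnected_image, Set.image_univ, hrange]
    exact hpre
  have hcomp : t ≫ b = Spec.map (CommRingCat.ofHom ρ) := by
    rw [← Spec.map_comp, ← CommRingCat.ofHom_comp]
    congr 2
    rw [IsScalarTower.algebraMap_eq A Ah B, ← RingHom.comp_assoc, ← hev]
    congr 1
    exact AdjoinRoot.lift_comp_of _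
  have h2 : PreconnectedSpace ↥(pullback f (Spec.map (CommRingCat.ofHom ρ))) := by
    rw [← hcomp]
    refine ⟨?_⟩
    rw [← (pullbackLeftPullbackSndIso f b t).hom.surjective.range_eq]
    exact isPreconnected_range (pullbackLeftPullbackSndIso f b t).hom.continuous
  haveI : Nonempty ↥(pullback f (Spec.map (CommRingCat.ofHom ρ))) := by
    haveI : Nonempty X := by
      by_contra hne
      haveI : IsEmpty X := not_nonempty_iff.mp hne
      have : Subsingleton Γ(X, ⊤) := inferInstance
      have : Subsingleton Γ(Spec (CommRingCat.of A), ⊤) := hb.1.subsingleton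
      exact (not_subsingleton A) ((Scheme.ΓSpecIso (CommRingCat.of A)).commRingCatIsoToRingEquiv.symm.injective.subsingleton)
    obtain ⟨x₁⟩ := ‹Nonempty X›
    have hcl : IsLocalRing.closedPoint A ∈ Set.range f :=
      f.isClosedMap.isClosed_range.stableUnderSpecialization (IsLocalRing.specializes_closedPoint (f x₁)) ⟨x₁, rfl⟩
    obtain ⟨x₀, hx₀⟩ := hcl
    obtain ⟨z, -, -⟩ := Scheme.Pullback.exists_preimage_pullback (f := f)
      (g := Spec.map (CommRingCat.ofHom ρ)) x₀ (IsLocalRing.closedPoint k') (by
        rw [hx₀]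
        apply PrimeSpectrum.ext
        show IsLocalRing.maximalIdeal A = Ideal.comap ρ (IsLocalRing.maximalIdeal k')
        rw [IsLocalRing.maximalIdeal_eq_bot (R := k'), ← RingHom.ker_eq_comap_bot, RingHom.ker_comp_of_injective _
          (algebraMap (IsLocalRing.ResidueField A) k').injective, IsLocalRing.ker_residue])
    exact ⟨z⟩
  exact { toPreconnectedSpace := h2, toNonempty := inferInstance }

end Groth.Agent.ZarConn
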