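import Mathlib
import Groth.Agent.ZarConn.Zariski
import Groth.Agent.FieldExtConn.Conn
import Groth.Agent.FlatDescent.Point

/-!
# Zariski's connectedness theorem
-/

set_option autoImplicit false
universe u
open CategoryTheory Limits AlgebraicGeometry TopologicalSpace Opposite

namespace Groth.Agent.ZarConn

variable {X Y : Scheme.{u}} (f : X ⟶ Y)

theorem connectedSpace_pullback_ext [IsProper f] [IsLocallyNoetherian Y]
    (hf : ∀ U : Y.Opens, Function.Bijective (f.app U).hom) (y : Y) (L : Type u) [Field L]
    [Algebra (Y.residueField y) L] [FiniteDimensional (Y.residueField y) L]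
    [Algebra.IsSeparable (Y.residueField y) L] :
    ConnectedSpace ↥(pullback f (Spec.map (CommRingCat.ofHom (algebraMap (Y.residueField y) L)) ≫
      Y.fromSpecResidueField y)) := by
  obtain ⟨_, ⟨U, hU, rfl⟩, hyU, -⟩ :=
    Y.isBasis_affineOpens.exists_subset_of_mem_open (Set.mem_univ y) isOpen_univ
  change Y.Opens at U
  haveI : IsAffine (U : Scheme.{u}) := hU
  let a : Spec (Y.presheaf.stalk y) ⟶ (U : Scheme.{u}) := U.fromSpecStalkOfMem y hyU
  have ha : a ≫ U.ι = Y.fromSpecStalk y := U.fromSpecStalkOfMem_ι y hyU
  haveI : Flat a := by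
    haveI : Flat (Y.fromSpecStalk y) := Groth.FlatDescent.flat_fromSpecStalk y
    have hp : IsPullback (𝟙 (Spec (Y.presheaf.stalk y))) a (Y.fromSpecStalk y) U.ι := by
      refine ⟨⟨by rw [Category.id_comp, ha]⟩, ⟨PullbackCone.IsLimit.mk _ (fun s => s.fst) (fun s => Category.comp_id _)
        (fun s => ?_) (fun s m h1 _ => ?_)⟩⟩
      · rw [← cancel_mono U.ι, Category.assoc, ha, s.condition]
      · simpa using h1
    exact MorphismProperty.of_isPullback (P := @Flat) hp inferInstance
  have hbU : Function.Bijective (f ∣_ U).appTop.hom := by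
    have h1 : IsIso (f.app (U.ι ''ᵁ ⊤)) := (ConcreteCategory.isIso_iff_bijective _).mpr (hf _)
    have h3 : IsIso (f ∣_ U).appTop := by
      rw [morphismRestrict_appTop]
      exact @IsIso.comp_isIso _ _ _ _ _ _ _ h1 (Functor.map_isIso X.presheaf _)
    exact ConcreteCategory.bijective_of_isIso (f ∣_ U).appTop
  haveI : IsNoetherianRing (Y.presheaf.stalk y) := inferInstance
  have hb := bijective_appTop_flat (IsPullback.of_hasPullback (f ∣_ U) a) hbU
  letI : Algebra (IsLocalRing.ResidueField (Y.presheaf.stalk y)) L := ‹Algebra (Y.residueField y) L›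
  haveI : FiniteDimensional (IsLocalRing.ResidueField (Y.presheaf.stalk y)) L := ‹FiniteDimensional (Y.residueField y) L›
  haveI : Algebra.IsSeparable (IsLocalRing.ResidueField (Y.presheaf.stalk y)) L :=
    ‹Algebra.IsSeparable (Y.residueField y) L›
  let f' : pullback (f ∣_ U) a ⟶ Spec (CommRingCat.of ↑(Y.presheaf.stalk y)) := pullback.snd (f ∣_ U) a
  haveI : IsProper f' := (inferInstance : IsProper (pullback.snd (f ∣_ U) a))
  have hc := connectedSpace_pullback_of_bijective ↑(Y.presheaf.stalk y) f' hb L
  set t := Spec.map (CommRingCat.ofHom ((algebraMap (IsLocalRing.ResidueField (Y.presheaf.stalk y)) L).comp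
      (IsLocalRing.residue (Y.presheaf.stalk y)))) with ht
  have he : Spec.map (CommRingCat.ofHom (algebraMap (Y.residueField y) L)) ≫ Y.fromSpecResidueField y =
      (t ≫ a) ≫ U.ι := by
    rw [Category.assoc, ha, ht]
    exact (Category.assoc _ _ _).symm.trans (congrArg (· ≫ Y.fromSpecStalk y) (Spec.map_comp _ _).symm)
  rw [he]
  let q := pullbackLeftPullbackSndIso (f ∣_ U) a t
  have hpb := (IsPullback.of_hasPullback (f ∣_ U) (t ≫ a)).paste_horiz (isPullback_morphismRestrict f U).flip
  let q' : pullback (f ∣_ U) (t ≫ a) ≅ pullback f ((t ≫ a) ≫ U.ι) := hpb.isoPullback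
  exact (q ≪≫ q').hom.surjective.connectedSpace (q ≪≫ q').hom.continuous

/-- Zariski's connectedness theorem. -/
theorem geometricallyConnected_of_bijective [IsProper f] [IsLocallyNoetherian Y]
    (hf : ∀ U : Y.Opens, Function.Bijective (f.app U).hom) : GeometricallyConnected f := by
  rw [GeometricallyConnected.iff_geometricallyConnected_fiber]
  intro y
  have key : ∀ L : FieldExtConn.Level (k := Y.residueField y)
      (separableClosure (Y.residueField y) (AlgebraicClosure (Y.residueField y))),
      ConnectedSpace (pullback (f.fiberToSpecResidueField y) (FieldExtConn.ext (Y.residueField y) L.1) :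
        Scheme.{u}) := fun L => by
    haveI : Algebra.IsSeparable (Y.residueField y) L.1 :=
      Algebra.isSeparable_tower_bot_of_isSeparable _ L.1
        (separableClosure (Y.residueField y) (AlgebraicClosure (Y.residueField y)))
    have := connectedSpace_pullback_ext f hf y L.1
    let q := pullbackLeftPullbackSndIso f (Y.fromSpecResidueField y)
      (FieldExtConn.ext (Y.residueField y) L.1)
    exact q.inv.surjective.connectedSpace q.inv.continuous
  have hh := FieldExtConn.connectedSpace_of_levels (k := Y.residueField y) (f.fiberToSpecResidueField y)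
    (separableClosure (Y.residueField y) (AlgebraicClosure (Y.residueField y))) key
  exact FieldExtConn.geometricallyConnected_of_sepClosure (k := Y.residueField y) (h := hh) (f.fiberToSpecResidueField y)

theorem connectedSpace_fiber [IsProper f] [IsLocallyNoetherian Y]
    (hf : ∀ U : Y.Opens, Function.Bijective (f.app U).hom) (y : Y) : ConnectedSpace ↥(f.fiber y) := by
  haveI := geometricallyConnected_of_bijective f hf
  infer_instance

end Groth.Agent.ZarConn
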