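import Groth.Agent.ZarConn.Stein
import Mathlib.AlgebraicGeometry.Morphisms.UniversallyInjective
import Mathlib.FieldTheory.PurelyInseparable.Basic
import Mathlib.RingTheory.KrullDimension.Zero
import Mathlib.RingTheory.HopkinsLevitzki

/-!
# Geometric connectedness over a field
-/

set_option autoImplicit false
universe u
open CategoryTheory CategoryTheory.Limits AlgebraicGeometry

namespace Groth.Agent.ZarConnField

variable {k : Type u} [Field k]

theorem preconnectedSpace_of_closed_surjective {P Q : Type*} [TopologicalSpace P] [TopologicalSpace Q]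
    [PreconnectedSpace Q] (π : P → Q) (hs : Function.Surjective π) (hc : IsClosedMap π)
    (hf : ∀ y, IsPreconnected (π ⁻¹' {y})) : PreconnectedSpace P := by
  refine ⟨?_⟩
  rw [isPreconnected_closed_iff]
  intro u v hu hv huv hun hvn
  obtain ⟨y, -, ⟨x₁, hx₁, h₁⟩, ⟨x₂, hx₂, h₂⟩⟩ :=
    isPreconnected_closed_iff.mp isPreconnected_univ (π '' u) (π '' v) (hc u hu) (hc v hv)
      (fun y _ => by
        obtain ⟨x, rfl⟩ := hs y
        exact (huv (Set.mem_univ x)).imp (fun h => ⟨x, h, rfl⟩) (fun h => ⟨x, h, rfl⟩))
      (hun.imp' π fun x hx => ⟨trivial, x, hx.2, rfl⟩) (hvn.imp' π fun x hx => ⟨trivial, x, hx.2, rfl⟩)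
  obtain ⟨x, -, hx⟩ := isPreconnected_closed_iff.mp (hf y) u v hu hv (fun x _ => huv (Set.mem_univ x))
    ⟨x₁, h₁, hx₁⟩ ⟨x₂, h₂, hx₂⟩
  exact ⟨x, trivial, hx⟩

/-- A finite scheme over a field is geometrically connected iff it is radicial and nonempty. -/
theorem geometricallyConnected_iff_universallyInjective {S : Scheme.{u}}
    (g : S ⟶ Spec (CommRingCat.of k)) [IsFinite g] :
    GeometricallyConnected g ↔ UniversallyInjective g ∧ Nonempty S := by
  haveI : Subsingleton ↥(Spec (CommRingCat.of k)) := inferInstanceAs (Subsingleton (PrimeSpectrum k))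
  have key : ∀ {T : Scheme.{u}} (t : T ⟶ Spec (CommRingCat.of k)) [IsFinite t] [ConnectedSpace T],
      Subsingleton T := fun t _ _ => by
    haveI : IsLocallyArtinian _ := IsLocallyArtinian.of_locallyQuasiFinite t
    exact PreconnectedSpace.trivial_of_discrete
  refine ⟨fun h => ?_, fun ⟨h, hne⟩ => ?_⟩
  · haveI : ConnectedSpace S := @GeometricallyConnected.connectedSpace_of_subsingleton _ _ g h
      (inferInstanceAs (Subsingleton (PrimeSpectrum k))) (inferInstanceAs (Nonempty (PrimeSpectrum k)))
    haveI : Subsingleton S := key g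
    have hp : GeometricallyConnected (pullback.fst g g) := MorphismProperty.pullback_fst g g h
    haveI : ConnectedSpace (pullback g g : Scheme.{u}) :=
      @GeometricallyConnected.connectedSpace_of_subsingleton _ _ (pullback.fst g g) hp inferInstance inferInstance
    haveI : Subsingleton (pullback g g : Scheme.{u}) := key (pullback.fst g g ≫ g)
    refine ⟨(UniversallyInjective.iff_diagonal g).mpr ⟨fun z => ?_⟩, inferInstance⟩
    obtain ⟨s⟩ := (inferInstance : Nonempty S)
    exact ⟨s, Subsingleton.elim _ _⟩
  · haveI : Surjective g := ⟨fun x =>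
      ⟨hne.some, (inferInstance : Subsingleton (PrimeSpectrum k)).elim _ _⟩⟩
    refine ⟨geometrically_iff_of_isClosedUnderIsomorphisms.mpr fun K _ y => ?_⟩
    haveI : Subsingleton ↥(Spec (CommRingCat.of K)) := inferInstanceAs (Subsingleton (PrimeSpectrum K))
    haveI : UniversallyInjective (pullback.snd g y) := MorphismProperty.pullback_snd _ _ h
    haveI : Subsingleton (pullback g y : Scheme.{u}) := (pullback.snd g y).injective.subsingleton
    haveI : Surjective (pullback.snd g y) := inferInstance
    haveI : Nonempty (pullback g y : Scheme.{u}) :=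
      ⟨((pullback.snd g y).surjective (IsLocalRing.closedPoint K)).choose⟩
    exact ⟨inferInstance⟩

/-- Composition with a proper morphism with connected fibres does not affect geometric connectedness. -/
theorem geometricallyConnected_comp_iff {X S : Scheme.{u}} (h : X ⟶ S) [IsProper h]
    [GeometricallyConnected h] (g : S ⟶ Spec (CommRingCat.of k)) :
    GeometricallyConnected (h ≫ g) ↔ GeometricallyConnected g := by
  constructor <;>
  · intro H
    refine ⟨geometrically_iff_of_isClosedUnderIsomorphisms.mpr fun K _ y => ?_⟩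
    let π := pullback.snd h (pullback.fst g y)
    let e := pullbackRightPullbackFstIso g y h
    first
    | haveI : ConnectedSpace (pullback (h ≫ g) y : Scheme.{u}) := inferInstance
      haveI : ConnectedSpace (pullback h (pullback.fst g y) : Scheme.{u}) :=
        e.inv.surjective.connectedSpace e.inv.continuous
      exact π.surjective.connectedSpace π.continuous
    | haveI : ConnectedSpace (pullback g y : Scheme.{u}) := inferInstance
      rw [← e.hom.homeomorph.connectedSpace_iff]
      haveI := preconnectedSpace_of_closed_surjective π π.surjective π.isClosedMap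
        (fun z => (π.isConnected_preimage_singleton z).isPreconnected)
      haveI : Nonempty (pullback h (pullback.fst g y) : Scheme.{u}) :=
        ⟨(π.surjective (Classical.arbitrary _)).choose⟩
      exact ⟨inferInstance⟩

/-- Radiciality of a finite algebra over a field. -/
theorem universallyInjective_spec_iff {R : Type u} [CommRing R] [Algebra k R] [Module.Finite k R] :
    (UniversallyInjective (Spec.map (CommRingCat.ofHom (algebraMap k R))) ∧
      Nonempty (Spec (CommRingCat.of R))) ↔
    (IsLocalRing R ∧ ringKrullDim R = 0 ∧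
      ∀ a : R, ∃ (n : ℕ) (c : k), IsNilpotent (a ^ (ringExpChar k ^ n) - algebraMap k R c)) := by
  haveI : IsArtinianRing R := IsArtinianRing.of_finite k R
  haveI : ExpChar k (ringExpChar k) := ringExpChar.expChar k
  let p := Spec.map (CommRingCat.ofHom (algebraMap k R))
  have e : UniversallyInjective p ↔ ∀ (K : Type u) [Field K],
      Function.Injective (fun g : Spec (CommRingCat.of K) ⟶ Spec (CommRingCat.of R) => g ≫ p) :=
    (tfae_universallyInjective p).out 0 1
  constructor
  · rintro ⟨h, hne⟩
    haveI : Nontrivial R := PrimeSpectrum.nonempty_iff_nontrivial.mp hne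
    haveI : Subsingleton ↥(Spec (CommRingCat.of k)) := inferInstanceAs (Subsingleton (PrimeSpectrum k))
    have hs : Subsingleton (PrimeSpectrum R) :=
      (Spec.map (CommRingCat.ofHom (algebraMap k R))).injective.subsingleton
        
    haveI : IsLocalRing R := IsLocalRing.of_unique_max_ideal (by
      obtain ⟨M, hM⟩ := Ideal.exists_maximal R
      exact ⟨M, hM, fun M' hM' => congrArg PrimeSpectrum.asIdeal
        (Subsingleton.elim (⟨M', hM'.isPrime⟩ : PrimeSpectrum R) ⟨M, hM.isPrime⟩)⟩)
    refine ⟨inferInstance, ringKrullDimZero_iff_ringKrullDim_eq_zero.mp inferInstance, fun a => ?_⟩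
    let L := IsLocalRing.ResidueField R
    haveI : IsPurelyInseparable k L := by
      rw [isPurelyInseparable_iff_subsingleton_emb]
      refine ⟨fun σ τ => AlgHom.ext fun l => ?_⟩
      obtain ⟨r, rfl⟩ := IsLocalRing.residue_surjective l
      let g₁ : CommRingCat.of R ⟶ CommRingCat.of (AlgebraicClosure L) :=
        CommRingCat.ofHom (σ.toRingHom.comp (IsLocalRing.residue R))
      let g₂ : CommRingCat.of R ⟶ CommRingCat.of (AlgebraicClosure L) :=
        CommRingCat.ofHom (τ.toRingHom.comp (IsLocalRing.residue R))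
      have hg : Spec.map g₁ = Spec.map g₂ := by
        refine (e.mp h) (AlgebraicClosure L) ?_
        show Spec.map g₁ ≫ _ = Spec.map g₂ ≫ _
        rw [← Spec.map_comp, ← Spec.map_comp]
        congr 1
        ext c
        exact (σ.commutes c).trans (τ.commutes c).symm
      exact congr($(Spec.map_injective hg).hom r)
    obtain ⟨n, c, hc⟩ := IsPurelyInseparable.pow_mem k (ringExpChar k) (IsLocalRing.residue R a)
    refine ⟨n, c, ?_⟩
    rw [← mem_nilradical, Ring.KrullDimLE.nilradical_eq_maximalIdeal R, ← IsLocalRing.residue_eq_zero_iff,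
      map_sub, map_pow, sub_eq_zero]
    exact hc.symm
  · rintro ⟨hloc, -, hP⟩
    refine ⟨e.mpr fun K _ g₁ g₂ hg => ?_, inferInstance⟩
    obtain ⟨φ₁, rfl⟩ := Spec.map_surjective g₁
    obtain ⟨φ₂, rfl⟩ := Spec.map_surjective g₂
    have hk := Spec.map_injective (((Spec.map_comp _ _).trans hg).trans (Spec.map_comp _ _).symm)
    let := (φ₁.hom.comp (algebraMap k R)).toAlgebra
    haveI : ExpChar K (ringExpChar k) := expChar_of_injective_ringHom (algebraMap k K).injective _
    congr 1
    ext a
    obtain ⟨n, c, hn⟩ := hP a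
    apply iterateFrobenius_inj K (ringExpChar k) n
    simp only [iterateFrobenius_def]
    have hz : ∀ φ : R →+* K, φ a ^ ringExpChar k ^ n = φ (algebraMap k R c) := fun φ => by
      rw [← map_pow, ← sub_eq_zero, ← map_sub]
      exact (hn.map φ).eq_zero
    rw [hz, hz]
    exact congr($(hk).hom c)

theorem geometricallyConnected_iff {X : Scheme.{u}} (f : X ⟶ Spec (CommRingCat.of k)) [IsProper f] :
    GeometricallyConnected f ↔
      (IsLocalRing Γ(X, ⊤) ∧ ringKrullDim Γ(X, ⊤) = 0 ∧
        ∀ a : Γ(X, ⊤), ∃ (n : ℕ) (c : k),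
          IsNilpotent (a ^ (ringExpChar k ^ n) -
            f.appTop.hom ((Scheme.ΓSpecIso (CommRingCat.of k)).inv.hom c))) := by
  let ψ : CommRingCat.of k ⟶ Γ(X, ⊤) := (Scheme.ΓSpecIso (CommRingCat.of k)).inv ≫ f.appTop
  let := ψ.hom.toAlgebra
  have hfin : Module.Finite k Γ(X, ⊤) :=
    (ZarConn.finite_appTop f).comp
      (RingHom.Finite.of_surjective _ (Scheme.ΓSpecIso (CommRingCat.of k)).symm.commRingCatIsoToRingEquiv.surjective)
  haveI : IsNoetherianRing Γ(X, ⊤) := IsNoetherianRing.of_finite k _
  let g : Spec Γ(X, ⊤) ⟶ Spec (CommRingCat.of k) := Spec.map ψ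
  haveI : IsFinite g := (IsFinite.SpecMap_iff ψ).mpr (RingHom.finite_algebraMap.mpr hfin)
  have hfac : X.toSpecΓ ≫ g = f := by
    show X.toSpecΓ ≫ Spec.map ((Scheme.ΓSpecIso (CommRingCat.of k)).inv ≫ f.appTop) = f
    rw [Spec.map_comp, ← Scheme.toSpecΓ_naturality_assoc, toSpecΓ_SpecMap_ΓSpecIso_inv, Category.comp_id]
  haveI : IsProper X.toSpecΓ := by
    haveI : IsProper (X.toSpecΓ ≫ g) := by rw [hfac]; infer_instance
    exact IsProper.of_comp _ g
  have hb : Function.Bijective X.toSpecΓ.appTop.hom := by
    rw [Scheme.toSpecΓ_appTop]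
    exact ConcreteCategory.bijective_of_isIso (Scheme.ΓSpecIso Γ(X, ⊤)).hom
  haveI := ZarConn.geometricallyConnected_of_bijective X.toSpecΓ
    (ZarConn.bijective_app_of_cover X.toSpecΓ (fun _ : Unit => (⊤ : (Spec Γ(X, ⊤)).Opens))
      (fun _ => isAffineOpen_top _) (TopologicalSpace.IsOpenCover.mk iSup_const) (fun _ => hb))
  rw [← hfac, geometricallyConnected_comp_iff, geometricallyConnected_iff_universallyInjective]
  have := universallyInjective_spec_iff (k := k) (R := Γ(X, ⊤))
  rw [hfac]
  exact this

end Groth.Agent.ZarConnField
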