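import Mathlib
import Groth.Agent.ZarConn.Global
import Groth.Agent.CohFinite.ProperSupport

/-!
# The Stein factorization of a universally closed morphism
-/

set_option autoImplicit false
universe u
open CategoryTheory Limits AlgebraicGeometry TopologicalSpace Opposite

namespace Groth.Agent.ZarConn

variable {X T Y : Scheme.{u}}

theorem bijective_app_basicOpen (g : X ⟶ T) [QuasiCompact g] [QuasiSeparated g] {V : T.Opens}
    (hV : IsAffineOpen V) (h : Function.Bijective (g.app V).hom) (s : Γ(T, V)) :
    Function.Bijective (g.app (T.basicOpen s)).hom := by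
  letI : Algebra Γ(T, V) Γ(T, T.basicOpen s) := (T.presheaf.map (homOfLE (T.basicOpen_le s)).op).hom.toAlgebra
  have h1 : IsLocalization.Away s Γ(T, T.basicOpen s) := hV.isLocalization_basicOpen s
  let W := g ⁻¹ᵁ V
  let r : Γ(X, W) := g.app V s
  letI : Algebra Γ(X, W) Γ(X, X.basicOpen r) := (X.presheaf.map (homOfLE (X.basicOpen_le r)).op).hom.toAlgebra
  have h2 : IsLocalization.Away r Γ(X, X.basicOpen r) :=
    isLocalization_basicOpen_of_qcqs (g.isCompact_preimage hV.isCompact)
      (g.isQuasiSeparated_preimage hV.isQuasiSeparated) r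
  have e : g ⁻¹ᵁ T.basicOpen s = X.basicOpen r := Scheme.preimage_basicOpen g s
  let φ := g.app (T.basicOpen s) ≫ X.presheaf.map (eqToHom e.symm).op
  have hsq : φ.hom.comp (algebraMap Γ(T, V) Γ(T, T.basicOpen s)) =
      (algebraMap Γ(X, W) Γ(X, X.basicOpen r)).comp (g.app V).hom := by
    show (T.presheaf.map (homOfLE (T.basicOpen_le s)).op ≫ φ).hom =
      (g.app V ≫ X.presheaf.map (homOfLE (X.basicOpen_le r)).op).hom
    congr 1
    simp only [φ, g.naturality_assoc, ← Functor.map_comp]
    rfl
  have hu : φ.hom = IsLocalization.Away.map Γ(T, T.basicOpen s) Γ(X, X.basicOpen r) (g.app V).hom s :=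
    IsLocalization.ringHom_ext (Submonoid.powers s) (hsq.trans (IsLocalization.map_comp
      (S := Γ(T, T.basicOpen s)) (Q := Γ(X, X.basicOpen r)) _).symm)
  have hφ : Function.Bijective φ.hom := by
    rw [hu]
    exact (IsLocalization.ringEquivOfRingEquiv (M := Submonoid.powers s) (T := Submonoid.powers r)
      Γ(T, T.basicOpen s) Γ(X, X.basicOpen r) (RingEquiv.ofBijective (g.app V).hom h)
      (Submonoid.map_powers _ s)).bijective
  haveI : IsIso φ := (ConcreteCategory.isIso_iff_bijective _).mpr hφ
  haveI : IsIso (g.app (T.basicOpen s)) :=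
    @IsIso.of_isIso_comp_right _ _ _ _ _ _ _ (Functor.map_isIso X.presheaf _) this
  exact ConcreteCategory.bijective_of_isIso (g.app (T.basicOpen s))

/-- Bijectivity on an affine cover gives bijectivity on all opens. -/
theorem bijective_app_of_cover (g : X ⟶ T) [QuasiCompact g] [QuasiSeparated g] {ι : Type*} (V : ι → T.Opens)
    (hV : ∀ i, IsAffineOpen (V i)) (hcov : iSup V = ⊤) (h : ∀ i, Function.Bijective (g.app (V i)).hom)
    (W : T.Opens) : Function.Bijective (g.app W).hom := by
  let D : T.Opens → Type _ := fun W => {p : Σ i, Γ(T, V i) // T.basicOpen p.2 ≤ W}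
  have hD : ∀ W : T.Opens, W ≤ ⨆ p : D W, T.basicOpen p.1.2 := fun W x hx => by
    obtain ⟨i, hxi⟩ := Opens.mem_iSup.mp (show x ∈ iSup V by rw [hcov]; trivial)
    obtain ⟨s, hs, hxs⟩ := (hV i).exists_basicOpen_le ⟨x, hx⟩ hxi
    exact Opens.mem_iSup.mpr ⟨⟨⟨i, s⟩, hs⟩, hxs⟩
  have hnat : ∀ (A B : T.Opens) (e : A ≤ B) (r : Γ(T, B)),
      g.app A (T.presheaf.map (homOfLE e).op r) = X.presheaf.map (homOfLE (g.preimage_mono e)).op (g.app B r) :=
    fun A B e r => congrArg (fun φ => φ.hom r) (g.naturality (homOfLE e).op)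
  have hinj : ∀ W, Function.Injective (g.app W).hom := fun W a b hab => by
    refine T.sheaf.eq_of_locally_eq' (fun p : D W => T.basicOpen p.1.2) W (fun p => homOfLE p.2) (hD W) _ _ fun p => ?_
    apply (bijective_app_basicOpen g (hV p.1.1) (h p.1.1) p.1.2).1
    exact (hnat _ _ p.2 a).trans ((congrArg _ hab).trans (hnat _ _ p.2 b).symm)
  refine ⟨hinj W, fun s => ?_⟩
  have ht : ∀ p : D W, ∃ t : Γ(T, T.basicOpen p.1.2),
      g.app (T.basicOpen p.1.2) t = X.presheaf.map (homOfLE (g.preimage_mono p.2)).op s :=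
    fun p => (bijective_app_basicOpen g (hV p.1.1) (h p.1.1) p.1.2).2 _
  choose t ht using ht
  obtain ⟨a, ha, -⟩ := T.sheaf.existsUnique_gluing' (fun p : D W => T.basicOpen p.1.2) W (fun p => homOfLE p.2)
    (hD W) t (fun p p' => by
      apply hinj
      refine (hnat _ _ inf_le_left (t p)).trans (Eq.trans ?_ (hnat _ _ inf_le_right (t p')).symm)
      rw [ht p, ht p']
      simp only [← CommRingCat.comp_apply, ← Functor.map_comp]
      rfl)
  refine ⟨a, X.sheaf.eq_of_locally_eq' (fun p : D W => g ⁻¹ᵁ T.basicOpen p.1.2) (g ⁻¹ᵁ W)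
    (fun p => homOfLE (g.preimage_mono p.2)) ?_ _ _ fun p => ?_⟩
  · intro x hx
    obtain ⟨p, hp⟩ := Opens.mem_iSup.mp (hD W hx)
    exact Opens.mem_iSup.mpr ⟨p, hp⟩
  · refine (hnat _ _ p.2 a).symm.trans ?_
    exact (congrArg (g.app _).hom (ha p)).trans (ht p)

theorem isIntegral_app (f : X ⟶ Y) [UniversallyClosed f] {V : Y.Opens} (hV : IsAffineOpen V) :
    (f.app V).hom.IsIntegral := by
  have : IsAffine (V : Scheme.{u}) := hV
  have h0 := isIntegral_appTop_of_universallyClosed (f ∣_ V)
  rw [morphismRestrict_appTop] at h0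
  have h1 := (RingHom.isIntegral_respectsIso.cancel_right_isIso (f.app (V.ι ''ᵁ ⊤))
    (X.presheaf.map (eqToHom (image_morphismRestrict_preimage f V ⊤)).op)).mp h0
  rwa [Scheme.Opens.ι_image_top] at h1

/-- The first map of the Stein factorization pushes the structure sheaf to the structure sheaf. -/
theorem bijective_app_toNormalization (f : X ⟶ Y) [UniversallyClosed f] [QuasiCompact f] [QuasiSeparated f]
    (W : f.normalization.Opens) : Function.Bijective (f.toNormalization.app W).hom := by
  refine bijective_app_of_cover f.toNormalization (fun U : Y.affineOpens => f.fromNormalization ⁻¹ᵁ U.1)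
    (fun U => U.2.preimage _) (IsOpenCover.comap (iSup_affineOpens_eq_top Y) f.fromNormalization.base.hom) ?_ W
  intro U
  letI := (f.app U.1).hom.toAlgebra
  rw [f.toNormalization_app_preimage U]
  have htop : integralClosure Γ(Y, U.1) Γ(X, f ⁻¹ᵁ U.1) = ⊤ := by
    rw [integralClosure_eq_top_iff, ← algebraMap_isIntegral_iff, RingHom.algebraMap_toAlgebra]
    exact isIntegral_app f U.2
  have hval : Function.Bijective (integralClosure Γ(Y, U.1) Γ(X, f ⁻¹ᵁ U.1)).val :=
    ⟨Subtype.val_injective, fun x => ⟨⟨x, htop.symm ▸ Algebra.mem_top⟩, rfl⟩⟩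
  simp only [CommRingCat.hom_comp, RingHom.coe_comp]
  refine Function.Bijective.comp (Function.Bijective.comp ?_ hval) ?_
  · exact (X.presheaf.mapIso (eqToIso (by rw [← Scheme.Hom.comp_preimage, Scheme.Hom.toNormalization_fromNormalization])).op).commRingCatIsoToRingEquiv.bijective
  · exact (f.normalizationObjIso U.2).commRingCatIsoToRingEquiv.bijective

/-- Global functions on a proper scheme over an affine Noetherian base are finite. -/
theorem finite_appTop {A : CommRingCat.{u}} [IsNoetherianRing A] (f : X ⟶ Spec A) [IsProper f] :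
    f.appTop.hom.Finite := by
  letI : X.Over (Spec (CommRingCat.of A)) := ⟨f⟩
  haveI : IsProper (X ↘ Spec (CommRingCat.of A)) := ‹IsProper f›
  have : CompactSpace X := QuasiCompact.compactSpace_of_compactSpace f
  have : IsLocallyNoetherian X := LocallyOfFiniteType.isLocallyNoetherian f
  have : AlgebraicGeometry.IsNoetherian X := ⟨⟩
  have hM : Coh.IsCoh (Coh.structureModule X) :=
    QCohLib.isCoh_iff.mpr ⟨InvBasic.isQuasicoherent_structureModule X, fun U =>
      inferInstanceAs (Module.Finite Γ(X, U.1) Γ(X, U.1))⟩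
  have hfin : Module.Finite A (Coh.HH X (Coh.structureModule X) 0) :=
    CohFinite.finite_HH_of_allFin (CohFinite.allFin_of_isProper f _ hM) 0
  let φ : A →+* Γ(X, ⊤) := Coh.toGlobal f
  have hφ : φ.Finite := by
    letI := φ.toAlgebra
    let e : Coh.HH X (Coh.structureModule X) 0 →ₗ[A] Γ(X, ⊤) :=
      { toFun := fun x => h0 (Coh.structureModule X) x
        map_add' := map_add _
        map_smul' := fun a x => by
          refine ((Sheaf.H.equiv₀_naturality isTerminalTop (Coh.smulAb (Coh.structureModule X) (Coh.toGlobal f a)) x).symm).trans ?_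
          show (X.presheaf.map (homOfLE (le_refl (⊤ : X.Opens))).op).hom (φ a) * (show Γ(X, ⊤) from h0 (Coh.structureModule X) x) = _
          rw [Subsingleton.elim (homOfLE (le_refl (⊤ : X.Opens))) (𝟙 _), op_id, CategoryTheory.Functor.map_id]
          rfl }
    exact Module.Finite.of_surjective e (h0 (Coh.structureModule X)).surjective
  have he : f.appTop.hom = φ.comp (Scheme.ΓSpecIso A).hom.hom := by
    show f.appTop.hom = ((Scheme.ΓSpecIso A).hom ≫ (Scheme.ΓSpecIso A).inv ≫ f.appTop).hom
    rw [Iso.hom_inv_id_assoc]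
  rw [he]
  exact hφ.comp (RingHom.Finite.of_surjective _ (Scheme.ΓSpecIso A).commRingCatIsoToRingEquiv.surjective)

theorem finite_app_of_isProper (f : X ⟶ Y) [IsProper f] [IsLocallyNoetherian Y] {V : Y.Opens}
    (hV : IsAffineOpen V) : (f.app V).hom.Finite := by
  haveI : IsNoetherianRing Γ(Y, V) := IsLocallyNoetherian.component_noetherian ⟨V, hV⟩
  let g := f ∣_ V ≫ hV.isoSpec.hom
  have h0 := finite_appTop g
  have h1 : g.appTop = hV.isoSpec.hom.appTop ≫ (f ∣_ V).appTop := Scheme.Hom.comp_appTop _ _
  haveI : IsIso hV.isoSpec.hom.appTop := inferInstanceAs (IsIso (Scheme.Γ.map hV.isoSpec.hom.op))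
  rw [h1] at h0
  have h2 := (RingHom.finite_respectsIso.cancel_left_isIso hV.isoSpec.hom.appTop (f ∣_ V).appTop).mp h0
  rw [morphismRestrict_appTop] at h2
  have h3 := (RingHom.finite_respectsIso.cancel_right_isIso (f.app (V.ι ''ᵁ ⊤))
    (X.presheaf.map (eqToHom (image_morphismRestrict_preimage f V ⊤)).op)).mp h2
  rwa [Scheme.Opens.ι_image_top] at h3

theorem isFinite_fromNormalization (f : X ⟶ Y) [IsProper f] [IsLocallyNoetherian Y] :
    IsFinite f.fromNormalization := by
  refine { finite_app := fun V hV => ?_ }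
  have h := finite_app_of_isProper f hV
  have e : f.toNormalization ⁻¹ᵁ f.fromNormalization ⁻¹ᵁ V = f ⁻¹ᵁ V := by
    rw [← Scheme.Hom.comp_preimage, Scheme.Hom.toNormalization_fromNormalization]
  haveI : IsIso (f.toNormalization.app (f.fromNormalization ⁻¹ᵁ V)) :=
    (ConcreteCategory.isIso_iff_bijective _).mpr (bijective_app_toNormalization f _)
  have h2 : f.fromNormalization.app V ≫ f.toNormalization.app (f.fromNormalization ⁻¹ᵁ V) =
      f.app V ≫ X.presheaf.map (eqToHom e).op := by
    rw [← Scheme.Hom.comp_app, Scheme.Hom.congr_app f.toNormalization_fromNormalization V]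
    rfl
  refine (RingHom.finite_respectsIso.cancel_right_isIso (f.fromNormalization.app V)
    (f.toNormalization.app (f.fromNormalization ⁻¹ᵁ V))).mp ?_
  rw [← CommRingCat.hom_comp, h2, CommRingCat.hom_comp]
  exact (RingHom.finite_respectsIso.cancel_right_isIso _ _).mpr h

instance isProper_toNormalization (f : X ⟶ Y) [IsProper f] : IsProper f.toNormalization := by
  haveI : IsProper (f.toNormalization ≫ f.fromNormalization) := by
    rw [Scheme.Hom.toNormalization_fromNormalization]; infer_instance
  exact IsProper.of_comp f.toNormalization f.fromNormalization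

theorem isLocallyNoetherian_normalization (f : X ⟶ Y) [IsProper f] [IsLocallyNoetherian Y] :
    IsLocallyNoetherian f.normalization :=
  haveI := isFinite_fromNormalization f
  LocallyOfFiniteType.isLocallyNoetherian f.fromNormalization

theorem geometricallyConnected_toNormalization (f : X ⟶ Y) [IsProper f] [IsLocallyNoetherian Y] :
    GeometricallyConnected f.toNormalization :=
  haveI := isLocallyNoetherian_normalization f
  geometricallyConnected_of_bijective f.toNormalization (bijective_app_toNormalization f)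

end Groth.Agent.ZarConn
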